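import Cfsg.Agent.CoreBalance.Main

/-!
The extended 2-layer of a normal subgroup of a centralizer.
-/

set_option linter.style.haveILetI false
set_option linter.unusedSectionVars false

namespace Cfsg.Lib.CoreBal

open Subgroup Cfsg.Lib.Components

universe u

variable {X : Type u} [Group X] [Finite X]

theorem oc_map_le {B : Subgroup X} {A : Subgroup ↥B} : (oc A).map B.subtype ≤ oc (A.map B.subtype) := by
  refine le_oc (Subgroup.map_mono (oc_le A)) ?_ (by rw [card_map_of_injective B.subtype_injective]; exact odd_oc A)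
  rintro _ ⟨a, ha, rfl⟩
  refine Cfsg.Lib.Sft.mem_normalizer_of_conj ?_
  rintro _ ⟨o, ho, rfl⟩
  exact ⟨a * o * a⁻¹, (mem_normalizer_iff.1 (le_normalizer_oc le_normalizer ha) o).1 ho, rfl⟩

theorem extended_le_of_normal {R A : Subgroup X} (hR : IsPGroup 2 R) (hA : A ≤ centralizer (R : Set X))
    (hn : centralizer (R : Set X) ≤ normalizer (A : Set X)) :
    (Cfsg.extendedTwoLayer ↥A).map A.subtype ≤ Cfsg.extendedTwoLayer X := by
  haveI : Fact (Nat.Prime 2) := ⟨Nat.prime_two⟩
  set CR := centralizer (R : Set X) with hCR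
  rw [Cfsg.extendedTwoLayer, Subgroup.map_sup, Subgroup.map_sup, Subgroup.map_iSup]
  refine sup_le (sup_le ?_ ?_) (iSup_le fun T => ?_)
  · haveI : (A.subgroupOf CR).Normal := (normal_subgroupOf_iff_le_normalizer hA).2 hn
    rintro _ ⟨x, hx, rfl⟩
    refine mem_sup_left (mem_sup_left (Cfsg.Agent.S1301.result R hR ?_))
    let e := subgroupOfEquivOfLe hA
    have hsn : (A.subgroupOf CR).IsSubnormal := (inferInstance : (A.subgroupOf CR).Normal).isSubnormal
    have hle : Cfsg.pLayer 2 ↥A ≤ ((Cfsg.pLayer 2 ↥CR).subgroupOf (A.subgroupOf CR)).map e.toMonoidHom := by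
      refine sSup_le fun K hK => ?_
      have hK1 := pcomp_map_equiv hK e.symm
      have hK2 := (pcomp_map_subtype_iff hsn).2 hK1
      intro k hk
      exact ⟨e.symm k, mem_subgroupOf.2 (le_sSup (s := {K | IsPComponent 2 K}) hK2 ⟨_, ⟨k, hk, rfl⟩, rfl⟩),
        e.apply_symm_apply k⟩
    obtain ⟨y, hy, rfl⟩ := hle hx
    exact ⟨(y : CR), hy, rfl⟩
  · exact (le_oc (((oc_le A)).trans hA) (le_normalizer_oc hn) (odd_oc A)).trans (main R hR)
  · set T' := (T : Subgroup ↥(Cfsg.pLayer 2 ↥A ⊔ Cfsg.pPrimePCore 2 ↥A)).map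
      (Cfsg.pLayer 2 ↥A ⊔ Cfsg.pPrimePCore 2 ↥A).subtype
    set T'' := T'.map A.subtype
    have hT : IsPGroup 2 T'' := (T.2.map _).map _
    have hTA : T'' ≤ A := map_subtype_le _
    have hRT : IsPGroup 2 ↥(T'' ⊔ R) := isPGroup_sup hT hR ((hTA.trans hA).trans (centralizer_le_normalizer _))
    refine le_trans ?_ (main (T'' ⊔ R) hRT)
    refine le_trans (oc_map_le (A := centralizer (T' : Set A))) ?_
    refine le_oc ?_ ?_ (odd_oc _)
    · refine (oc_le _).trans ?_
      rintro _ ⟨c, hc, rfl⟩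
      rw [← zpowers_le, ← Subgroup.le_centralizer_iff, sup_le_iff]
      constructor
      · rintro _ ⟨t, ht, rfl⟩
        rw [mem_centralizer_iff]
        intro z hz
        obtain ⟨i, rfl⟩ := mem_zpowers_iff.1 hz
        exact ((show Commute (c : X) (t : X) from
          (congrArg Subtype.val (mem_centralizer_iff.1 hc t ht)).symm).zpow_left i).eq
      · rw [Subgroup.le_centralizer_iff, zpowers_le]
        exact hA c.2
    · refine le_normalizer_oc ?_
      intro g hg
      have hgR : g ∈ CR := centralizer_le (le_sup_right : R ≤ T'' ⊔ R) hg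
      refine Cfsg.Lib.Sft.mem_normalizer_of_conj ?_
      rintro _ ⟨c, hc, rfl⟩
      refine ⟨⟨g * c * g⁻¹, (mem_normalizer_iff.1 (hn hgR) _).1 c.2⟩, mem_centralizer_iff.2 fun t ht =>
        Subtype.ext ?_, rfl⟩
      show (t : X) * (g * c * g⁻¹) = g * c * g⁻¹ * t
      have hgt : Commute g (t : X) := (mem_centralizer_iff.1 hg _ (mem_sup_left ⟨t, ht, rfl⟩)).symm
      have hct : Commute (c : X) (t : X) := (congrArg Subtype.val (mem_centralizer_iff.1 hc t ht)).symm
      exact (((hgt.mul_left hct).mul_left hgt.inv_left).eq).symm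

theorem pPrimePCore_equiv {A B : Type u} [Group A] [Finite A] [Group B] [Finite B] (e : A ≃* B) :
    (Cfsg.pPrimePCore 2 A).map e.toMonoidHom = Cfsg.pPrimePCore 2 B := by
  let q := QuotientGroup.congr (Cfsg.pPrimeCore 2 A) (Cfsg.pPrimeCore 2 B) e (pPrimeCore_map_equiv e)
  have h : ∀ x : A, QuotientGroup.mk' (Cfsg.pPrimeCore 2 B) (e x) = q (QuotientGroup.mk' _ x) := fun x => rfl
  ext y
  obtain ⟨x, rfl⟩ := e.surjective y
  show e.toMonoidHom x ∈ _ ↔ _
  rw [Subgroup.mem_map_iff_mem e.injective]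
  show QuotientGroup.mk' _ x ∈ Cfsg.pCore 2 _ ↔ QuotientGroup.mk' _ (e x) ∈ Cfsg.pCore 2 _
  rw [h, ← pCore_map_equiv q]
  exact (Subgroup.mem_map_iff_mem (f := q.toMonoidHom) q.injective).symm

theorem extended_map_equiv {A B : Type u} [Group A] [Finite A] [Group B] [Finite B] (e : A ≃* B) :
    (Cfsg.extendedTwoLayer A).map e.toMonoidHom ≤ Cfsg.extendedTwoLayer B := by
  haveI : Fact (Nat.Prime 2) := ⟨Nat.prime_two⟩
  have hLsymm : (Cfsg.pLayer 2 B).map e.symm.toMonoidHom ≤ Cfsg.pLayer 2 A := by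
    rw [Cfsg.pLayer, sSup_eq_iSup, Subgroup.map_iSup]
    refine iSup_le fun K => ?_
    rw [Subgroup.map_iSup]
    exact iSup_le fun hK => le_sSup (pcomp_map_equiv hK e.symm)
  have hL : (Cfsg.pLayer 2 A).map e.toMonoidHom ≤ Cfsg.pLayer 2 B := by
    rw [Cfsg.pLayer, sSup_eq_iSup, Subgroup.map_iSup]
    refine iSup_le fun K => ?_
    rw [Subgroup.map_iSup]
    exact iSup_le fun hK => le_sSup (pcomp_map_equiv hK e)
  rw [Cfsg.extendedTwoLayer, Subgroup.map_sup, Subgroup.map_sup, Subgroup.map_iSup]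
  refine sup_le (sup_le (hL.trans (le_sup_left.trans le_sup_left)) ?_) (iSup_le fun T => ?_)
  · exact ((pPrimeCore_map_equiv e).le).trans (le_sup_right.trans le_sup_left)
  · have hf : Function.Surjective (QuotientGroup.mk' (Cfsg.pPrimeCore 2 B)) := QuotientGroup.mk'_surjective _
    have hM : (Cfsg.pLayer 2 A ⊔ Cfsg.pPrimePCore 2 A).map e.toMonoidHom =
        Cfsg.pLayer 2 B ⊔ Cfsg.pPrimePCore 2 B := by
      rw [Subgroup.map_sup, le_antisymm hL (fun x hx => ⟨e.symm x, hLsymm ⟨x, hx, rfl⟩, e.apply_symm_apply x⟩),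
        pPrimePCore_equiv e]
    let φ := ((Cfsg.pLayer 2 A ⊔ Cfsg.pPrimePCore 2 A).equivMapOfInjective e.toMonoidHom e.injective).trans
      (MulEquiv.subgroupCongr hM)
    refine le_trans ?_ (le_trans (le_iSup _ (T.mapSurjective (f := φ.toMonoidHom) φ.surjective)) le_sup_right)
    refine le_oc ?_ ?_ ?_
    · rintro _ ⟨_, ⟨c, -, rfl⟩, rfl⟩
      refine mem_centralizer_iff.2 ?_
      rintro _ ⟨_, ⟨t, ht, rfl⟩, rfl⟩
      show e (t : A) * e (c : A) = e c * e (t : A)
      have htc : (t : A) * (c : A) = c * t := mem_centralizer_iff.1 c.2 _ ⟨t, ht, rfl⟩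
      rw [← map_mul, ← map_mul, htc]
    · intro g hg
      refine Cfsg.Lib.Sft.mem_normalizer_of_conj ?_
      rintro _ ⟨o, ho, rfl⟩
      have hg' : e.symm g ∈ centralizer (((T : Subgroup _).map
          (Cfsg.pLayer 2 A ⊔ Cfsg.pPrimePCore 2 A).subtype : Subgroup A) : Set A) := by
        refine mem_centralizer_iff.2 ?_
        rintro _ ⟨t, ht, rfl⟩
        refine e.injective ?_
        rw [map_mul, map_mul, e.apply_symm_apply]
        exact mem_centralizer_iff.1 hg _ ⟨φ t, ⟨t, ht, rfl⟩, rfl⟩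
      refine ⟨e.symm g * o * (e.symm g)⁻¹,
        (mem_normalizer_iff.1 (le_normalizer_oc le_normalizer hg') o).1 ho, ?_⟩
      show e (e.symm g * o * (e.symm g)⁻¹) = g * e o * g⁻¹
      rw [map_mul, map_mul, map_inv, e.apply_symm_apply]
    · rw [card_map_of_injective e.injective]
      exact odd_oc _

end Cfsg.Lib.CoreBal
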