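import Cfsg.Agent.CoreBalance.Tools
import Cfsg.Agent.Components.Signalizer.Sft.Tools
import Cfsg.Agent.Coprime.Sylow

/-!
An automorphism of odd order centralizing a centric 2-subgroup becomes, after a correction by an odd
element, an automorphism centralizing a Sylow 2-subgroup.
-/

set_option linter.style.haveILetI false
set_option linter.unusedSectionVars false

namespace Cfsg.Lib.CoreBal

open Subgroup Cfsg.Lib.Components

universe u

variable {G : Type u} [Group G] [Finite G]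

theorem centralizer_conj {Q : Subgroup G} {p x : G} (hp : p ∈ normalizer (Q : Set G))
    (hx : x ∈ centralizer (Q : Set G)) : p * x * p⁻¹ ∈ centralizer (Q : Set G) := by
  refine mem_centralizer_iff.2 fun q hq => ?_
  have h := mem_centralizer_iff.1 hx _ ((mem_normalizer_iff''.1 hp q).1 hq)
  calc q * (p * x * p⁻¹) = p * ((p⁻¹ * q * p) * x) * p⁻¹ := by group
    _ = p * (x * (p⁻¹ * q * p)) * p⁻¹ := by rw [h]
    _ = p * x * p⁻¹ * q := by group

theorem lift (H M : Subgroup G) (hM : ∀ x ∈ H, (orderOf x).Coprime 2 → x ∈ M) (Q : Subgroup G) :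
    Q ≤ H → IsPGroup 2 Q → (∀ x ∈ H, x ∈ centralizer (Q : Set G) → (∃ k, x ^ 2 ^ k = 1) → x ∈ Q) →
      ∀ d : G, d ∈ normalizer (H : Set G) → d ∈ centralizer (Q : Set G) → (orderOf d).Coprime 2 →
        ∃ (P : Subgroup G) (h d' : G), Q ≤ P ∧ P ≤ H ∧ IsPGroup 2 P ∧
          (∀ P' : Subgroup G, P ≤ P' → P' ≤ H → IsPGroup 2 P' → P' = P) ∧
          h ∈ M ∧ d' ∈ centralizer (P : Set G) ∧ (orderOf d').Coprime 2 ∧ d = h * d' := by
  induction Q using WellFoundedGT.induction with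
  | _ Q ih =>
  intro hQH hQ hcen d hdH hdQ hodd
  by_cases hmax : ∀ P' : Subgroup G, Q ≤ P' → P' ≤ H → IsPGroup 2 P' → P' = Q
  · exact ⟨Q, 1, d, le_rfl, hQH, hQ, hmax, M.one_mem, hdQ, hodd, (one_mul d).symm⟩
  push Not at hmax
  obtain ⟨P', hQP', hP'H, hP', hne⟩ := hmax
  haveI : Fact (Nat.Prime 2) := ⟨Nat.prime_two⟩
  haveI := hP'.isNilpotent
  set P1 : Subgroup G := P' ⊓ normalizer (Q : Set G) with hP1def
  have hlt : Q < P1 := by
    refine lt_of_le_of_ne (le_inf hQP' le_normalizer) fun e => hne ?_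
    have hnc := Group.normalizerCondition_of_isNilpotent (G := ↥P') (Q.subgroupOf P')
    by_contra hPQ
    have hlt' : Q.subgroupOf P' < ⊤ := lt_top_iff_ne_top.2 fun h =>
      hPQ (le_antisymm (subgroupOf_eq_top.1 h) hQP')
    obtain ⟨x, hx, hxn⟩ := SetLike.exists_of_lt (hnc hlt')
    refine hxn (mem_subgroupOf.2 ?_)
    rw [e]
    refine ⟨x.2, mem_normalizer_iff.2 fun q => ⟨fun hq => ?_, fun hq => ?_⟩⟩
    · exact mem_subgroupOf.1 ((mem_normalizer_iff.1 hx ⟨q, hQP' hq⟩).1 hq)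
    · have hqP : q ∈ P' := by
        have := P'.mul_mem (P'.mul_mem (P'.inv_mem x.2) (hQP' hq)) x.2
        simpa [mul_assoc] using this
      exact mem_subgroupOf.1 ((mem_normalizer_iff.1 hx ⟨q, hqP⟩).2 hq)
  have hP1 : IsPGroup 2 P1 := hP'.to_le inf_le_left
  have hP1H : P1 ≤ H := inf_le_left.trans hP'H
  set CQ := centralizer (Q : Set G) with hCQ
  set A := H ⊓ CQ with hA
  set Z := Q ⊓ CQ with hZ
  have hZA : Z ≤ A := inf_le_inf_right _ hQH
  have hAZ : A ≤ centralizer (Z : Set G) := fun a ha =>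
    mem_centralizer_iff.2 fun z hz => mem_centralizer_iff.1 ha.2 z hz.1
  have hZp : IsPGroup 2 Z := hQ.to_le inf_le_left
  have hAmax : ∀ x ∈ A, (∃ k, x ^ 2 ^ k = 1) → x ∈ Z := fun x hx h => ⟨hcen x hx.1 hx.2 h, hx.2⟩
  have hdA : d ∈ normalizer (A : Set G) :=
    Cfsg.Lib.Coprime.le_normalizer_inf (inf_le_left : normalizer (H : Set G) ⊓ CQ ≤ _)
      (inf_le_right.trans le_normalizer) ⟨hdH, hdQ⟩
  have hdO : zpowers d ≤ normalizer (oc A : Set G) := le_normalizer_oc (zpowers_le.2 hdA)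
  set V := oc A ⊔ zpowers d with hV
  have hVodd : (Nat.card V).Coprime 2 := by
    have h : Nat.card V ∣ Nat.card (oc A) * Nat.card (zpowers d) := by
      rw [← Cfsg.Lib.Coprime.card_sup_mul_card_inf hdO]
      exact dvd_mul_right _ _
    exact ((odd_oc A).mul_left (by rw [Nat.card_zpowers]; exact hodd)).coprime_dvd_left h
  have hVH : V ≤ normalizer (H : Set G) :=
    sup_le (((oc_le A).trans inf_le_left).trans le_normalizer) (zpowers_le.2 hdH)
  have hVCQ : V ≤ CQ := sup_le ((oc_le A).trans inf_le_right) (zpowers_le.2 hdQ)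
  have hP1V : P1 ≤ normalizer (V : Set G) := by
    intro p hp
    have hpA : p ∈ normalizer (A : Set G) := by
      refine Cfsg.Lib.Sft.mem_normalizer_of_conj fun x hx => ?_
      exact ⟨H.mul_mem (H.mul_mem (hP1H hp) hx.1) (H.inv_mem (hP1H hp)), centralizer_conj hp.2 hx.2⟩
    have hkey : p * d * p⁻¹ ∈ V := by
      have hw : p * d * p⁻¹ * d⁻¹ ∈ A := by
        refine ⟨?_, CQ.mul_mem (centralizer_conj hp.2 hdQ) (CQ.inv_mem hdQ)⟩
        rw [show p * d * p⁻¹ * d⁻¹ = p * (d * p⁻¹ * d⁻¹) by group]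
        exact H.mul_mem (hP1H hp) ((mem_normalizer_iff.1 hdH _).1 (H.inv_mem (hP1H hp)))
      obtain ⟨z, hz, o, ho, e⟩ := (Cfsg.Lib.Coprime.mem_sup_of_le_normalizer' (H := Z) (N := oc A)
        (hZA.trans (le_normalizer_oc le_normalizer))).1
        (by rw [sup_comm]; exact le_sup_oc hZA hAZ hZp hAmax hw)
      have hod : o * d ∈ V := V.mul_mem (mem_sup_left ho) (mem_sup_right (mem_zpowers d))
      have e' : z * (o * d) = p * d * p⁻¹ := by rw [← mul_assoc, e]; group
      obtain ⟨k, hk⟩ := hZp ⟨z, hz⟩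
      have hz1 : z = 1 := eq_one_of_odd (z := z) (c := o * d) ⟨k, by simpa using congrArg Subtype.val hk⟩
        (mem_centralizer_iff.1 (hVCQ hod) z hz.1) (hodd.mul_left hVodd)
        (by
          have h := congrArg Subtype.val (pow_card_eq_one' (x := (⟨o * d, hod⟩ : V)))
          simp only [SubgroupClass.coe_pow, OneMemClass.coe_one] at h
          rw [pow_mul', h, one_pow])
        (by rw [e', conj_pow, pow_mul, pow_orderOf_eq_one, one_pow, mul_one, mul_inv_cancel])
      rw [← e', hz1, one_mul]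
      exact hod
    have hpO : p ∈ normalizer (oc A : Set G) := le_normalizer_oc (zpowers_le.2 hpA) (mem_zpowers p)
    refine Cfsg.Lib.Sft.mem_normalizer_of_conj fun x hx => ?_
    have hle : V.map (MulAut.conj p).toMonoidHom ≤ V := by
      rw [hV, Subgroup.map_sup]
      refine sup_le ?_ ?_
      · rintro _ ⟨o, ho, rfl⟩
        exact mem_sup_left ((mem_normalizer_iff.1 hpO o).1 ho)
      · rw [MonoidHom.map_zpowers, zpowers_le]
        exact hkey
    exact hle ⟨x, hx, rfl⟩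
  obtain ⟨n, w, hnV, hnH, hwV, hwP, e⟩ := coprime_split hP1 hP1V (hP1H.trans le_normalizer) hVodd hVH
    (fun v hv a ha => by
      rw [show a * v * a⁻¹ * v⁻¹ = a * (v * a⁻¹ * v⁻¹) by group]
      exact H.mul_mem (hP1H ha) ((mem_normalizer_iff.1 (hVH hv) _).1 (H.inv_mem (hP1H ha))))
    (mem_sup_right (mem_zpowers d) : d ∈ V)
  obtain ⟨P, h, d', h1, h2, h3, h4, h5, h6, h7, h8⟩ := ih P1 hlt hP1H hP1
    (fun x hxH hxP hx2 => hlt.le (hcen x hxH (centralizer_le hlt.le hxP) hx2))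
    w (hVH hwV) hwP (odd_zpowers_of_mem hVodd hwV)
  exact ⟨P, n * h, d', hlt.le.trans h1, h2, h3, h4, M.mul_mem (hM n hnH (odd_zpowers_of_mem hVodd hnV)) h5,
    h6, h7, by rw [mul_assoc, ← h8, e]⟩

end Cfsg.Lib.CoreBal
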