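import Cfsg.Agent.CoreBalance.Lift
import Cfsg.Agent.Components.PComponentsExtra
import Cfsg.Agent.S0542
import Cfsg.Agent.S1293
import Cfsg.Agent.S1301

/-!
Core balance in every finite group.
-/

set_option linter.style.haveILetI false
set_option linter.unusedSectionVars false

namespace Cfsg.Lib.CoreBal

open Subgroup Cfsg.Lib.Components

universe u

variable {X : Type u} [Group X] [Finite X]

/-- a perfect subgroup lies in the kernel of every map to a `2`-group -/
theorem perfect_le {K N H : Subgroup X} (hK : ⁅K, K⁆ = K) [N.Normal] (hH : IsPGroup 2 H) (hle : K ≤ N ⊔ H) :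
    K ≤ N := by
  haveI : Fact (Nat.Prime 2) := ⟨Nat.prime_two⟩
  have hp : IsPGroup 2 ↥(K.map (QuotientGroup.mk' N)) := by
    refine (hH.map (QuotientGroup.mk' N)).to_le ((Subgroup.map_mono hle).trans ?_)
    rw [Subgroup.map_sup, QuotientGroup.map_mk'_self, bot_sup_eq]
  haveI := hp.isNilpotent
  by_contra hne
  haveI : Nontrivial ↥(K.map (QuotientGroup.mk' N)) := by
    refine (Subgroup.nontrivial_iff_ne_bot _).2 fun h => hne ?_
    rwa [Subgroup.map_eq_bot_iff, QuotientGroup.ker_mk'] at h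
  haveI : Group.IsPerfect ↥(K.map (QuotientGroup.mk' N)) :=
    Subgroup.isPerfect_iff.mpr (by rw [← map_commutator, hK])
  exact Group.IsPerfect.not_isNilpotent ↥(K.map (QuotientGroup.mk' N)) inferInstance

/-- an element of odd order of `N ⊔ R`, with `R` a `2`-group -/
theorem odd_mem {N R : Subgroup X} [N.Normal] (hR : IsPGroup 2 R) {x : X} (hx : x ∈ N ⊔ R)
    (hodd : (orderOf x).Coprime 2) : x ∈ N := by
  obtain ⟨n, hn, r, hr, e⟩ := (Cfsg.Lib.Coprime.mem_sup_of_le_normalizer (N := N) (H := R)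
    (by rw [normalizer_eq_top]; exact le_top)).1 hx
  obtain ⟨k, hk⟩ := hR ⟨r, hr⟩
  refine mem_of_pow_mem hodd (pow_orderOf_eq_one x) ⟨k, ?_⟩
  rw [← QuotientGroup.eq_one_iff, QuotientGroup.mk_pow, ← e, QuotientGroup.mk_mul,
    (QuotientGroup.eq_one_iff n).2 hn, one_mul, ← QuotientGroup.mk_pow]
  have hrk : r ^ 2 ^ k = 1 := by simpa using congrArg Subtype.val hk
  rw [hrk, QuotientGroup.mk_one]

theorem main (R : Subgroup X) (hR : IsPGroup 2 R) : oc (centralizer (R : Set X)) ≤ Cfsg.extendedTwoLayer X := by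
  haveI : Fact (Nat.Prime 2) := ⟨Nat.prime_two⟩
  haveI hPn : (Cfsg.pPrimePCore 2 X).Normal := (pCore_normal' 2).comap _
  haveI : (Cfsg.oddCore X).Normal := inferInstanceAs (Cfsg.pPrimeCore 2 X).Normal
  set M := Cfsg.pLayer 2 X ⊔ Cfsg.pPrimePCore 2 X with hMdef
  haveI hMn : M.Normal := sup_normal _ _
  set CR := centralizer (R : Set X) with hCR
  set D := oc CR with hDdef
  have hDC : D ≤ CR := oc_le _
  have hDn : CR ≤ normalizer (D : Set X) := le_normalizer_oc le_normalizer
  set H := M ⊔ R with hH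
  have hoddH : ∀ x ∈ H, (orderOf x).Coprime 2 → x ∈ M := fun x hx h => odd_mem hR hx h
  have hCRH : CR ≤ normalizer (H : Set X) := by
    refine Cfsg.Lib.Coprime.le_normalizer_sup ?_ (centralizer_le_normalizer _)
    rw [normalizer_eq_top]
    exact le_top
  intro d hd
  have hdodd : (orderOf d).Coprime 2 := odd_zpowers_of_mem (odd_oc CR) hd
  -- a Sylow subgroup of `H ∩ C(R)`
  set A0 := H ⊓ CR with hA0
  obtain ⟨P0⟩ := (inferInstance : Nonempty (Sylow 2 A0))
  set S0 := (P0 : Subgroup A0).map A0.subtype with hS0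
  have hS0A : S0 ≤ A0 := map_subtype_le _
  have hS0p : IsPGroup 2 S0 := P0.2.map _
  have hS0max : ∀ x ∈ A0, (∀ s ∈ S0, s * x = x * s) → (∃ k, x ^ 2 ^ k = 1) → x ∈ S0 := by
    intro x hx hc hk
    have hxp : IsPGroup 2 ↥(zpowers (⟨x, hx⟩ : A0)) := by
      rintro ⟨z, hz⟩
      obtain ⟨i, rfl⟩ := mem_zpowers_iff.1 hz
      obtain ⟨k, hk⟩ := hk
      refine ⟨k, Subtype.ext (Subtype.ext ?_)⟩
      simp only [SubgroupClass.coe_pow, SubgroupClass.coe_zpow, OneMemClass.coe_one]
      rw [← zpow_natCast, ← zpow_mul, mul_comm, zpow_mul, zpow_natCast, hk, one_zpow]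
    have hn : zpowers (⟨x, hx⟩ : A0) ≤ normalizer ((P0 : Subgroup A0) : Set A0) := by
      rw [zpowers_le]
      refine centralizer_le_normalizer _ (mem_centralizer_iff.2 fun s hs => Subtype.ext ?_)
      exact hc _ ⟨s, hs, rfl⟩
    have h := P0.3 (isPGroup_sup hxp P0.2 hn) le_sup_right
    exact ⟨⟨x, hx⟩, h ▸ mem_sup_left (mem_zpowers _), rfl⟩
  obtain ⟨n0, d1, hn0D, hn0A, hd1D, hd1S, e1⟩ := coprime_split hS0p
    ((hS0A.trans inf_le_right).trans hDn)
    (hS0A.trans le_normalizer) (odd_oc CR)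
    (Cfsg.Lib.Coprime.le_normalizer_inf (hDC.trans hCRH) (hDC.trans le_normalizer))
    (fun v hv a ha => by
      have hvn : v ∈ normalizer (A0 : Set X) :=
        Cfsg.Lib.Coprime.le_normalizer_inf (hDC.trans hCRH) (hDC.trans le_normalizer) hv
      rw [show a * v * a⁻¹ * v⁻¹ = a * (v * a⁻¹ * v⁻¹) by group]
      exact A0.mul_mem (hS0A ha) ((mem_normalizer_iff.1 hvn _).1 (A0.inv_mem (hS0A ha))))
    hd
  have hn0M : n0 ∈ M := hoddH n0 hn0A.1 (odd_zpowers_of_mem (odd_oc CR) hn0D)
  -- the centric subgroup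
  have hS0R : S0 ≤ normalizer (R : Set X) := (hS0A.trans inf_le_right).trans (centralizer_le_normalizer _)
  set Q := S0 ⊔ R with hQdef
  have hQH : Q ≤ H := sup_le (hS0A.trans inf_le_left) le_sup_right
  have hd1Q : d1 ∈ centralizer (Q : Set X) := by
    rw [← zpowers_le, ← Subgroup.le_centralizer_iff, hQdef, sup_le_iff, Subgroup.le_centralizer_iff, zpowers_le,
      Subgroup.le_centralizer_iff, zpowers_le]
    exact ⟨hd1S, hDC hd1D⟩
  obtain ⟨P, h, d', hQP, hPH, hP, hPmax, hhM, hd'P, hd'odd, e2⟩ := lift H M hoddH Q hQH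
    (isPGroup_sup hS0p hR hS0R)
    (fun x hxH hxQ hx2 => mem_sup_left (hS0max x
      ⟨hxH, centralizer_le (le_sup_right : R ≤ Q) hxQ⟩
      (fun s hs => mem_centralizer_iff.1 hxQ s (mem_sup_left hs)) hx2))
    d1 (hCRH (hDC hd1D)) hd1Q (odd_zpowers_of_mem (odd_oc CR) hd1D)
  have hRP : R ≤ P := le_sup_right.trans hQP
  -- a Sylow subgroup of `M`
  obtain ⟨S, hPS⟩ := hP.exists_le_sylow
  obtain ⟨T, hT⟩ := Cfsg.Agent.S0542.result 2 M hMn.isSubnormal S
  set T' := (T : Subgroup M).map M.subtype with hT'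
  have hTe : T' = (S : Subgroup X) ⊓ M := by rw [hT', hT, subgroupOf_map_subtype]
  have hTP : T' ≤ P := by
    have h1 : P ⊔ T' = P := hPmax _ le_sup_left
      (sup_le hPH (by rw [hTe]; exact inf_le_right.trans le_sup_left))
      (S.2.to_le (sup_le hPS (by rw [hTe]; exact inf_le_left)))
    exact le_sup_right.trans h1.le
  have hTe' : T' = P ⊓ M := le_antisymm (le_inf hTP (map_subtype_le _))
    (by rw [hTe]; exact inf_le_inf_right _ hPS)
  set C := centralizer (T' : Set X) with hC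
  have hd'C : d' ∈ C := centralizer_le hTP hd'P
  have hd'R : d' ∈ CR := centralizer_le hRP hd'P
  have hRC : R ≤ normalizer (C : Set X) := by
    intro r hr
    have hrT : r ∈ normalizer (T' : Set X) := by
      rw [hTe']
      exact Cfsg.Lib.Coprime.le_normalizer_inf le_normalizer
        (by rw [normalizer_eq_top]; exact le_top) (hRP hr)
    exact Cfsg.Lib.Sft.mem_normalizer_of_conj fun x hx => centralizer_conj hrT hx
  -- `2`-elements of `M ∩ C` are central in `C`
  set Z := T' ⊓ C with hZ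
  have hTmax : ∀ x ∈ M, x ∈ C → (∃ k, x ^ 2 ^ k = 1) → x ∈ Z := by
    intro x hx hxC hk
    have hxp : IsPGroup 2 ↥(zpowers (⟨x, hx⟩ : M)) := by
      rintro ⟨z, hz⟩
      obtain ⟨i, rfl⟩ := mem_zpowers_iff.1 hz
      obtain ⟨k, hk⟩ := hk
      refine ⟨k, Subtype.ext (Subtype.ext ?_)⟩
      simp only [SubgroupClass.coe_pow, SubgroupClass.coe_zpow, OneMemClass.coe_one]
      rw [← zpow_natCast, ← zpow_mul, mul_comm, zpow_mul, zpow_natCast, hk, one_zpow]
    have hn : zpowers (⟨x, hx⟩ : M) ≤ normalizer ((T : Subgroup M) : Set M) := by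
      rw [zpowers_le]
      refine centralizer_le_normalizer _ (mem_centralizer_iff.2 fun s hs => Subtype.ext ?_)
      exact mem_centralizer_iff.1 hxC _ ⟨s, hs, rfl⟩
    have h := T.3 (isPGroup_sup hxp T.2 hn) le_sup_right
    exact ⟨⟨⟨x, hx⟩, h ▸ mem_sup_left (mem_zpowers _), rfl⟩, hxC⟩
  have hTp : IsPGroup 2 Z := (S.2.to_le (by rw [hTe]; exact inf_le_left : T' ≤ (S : Subgroup X))).to_le inf_le_left
  -- the `2`-layer of `C` is trivial
  have hLC : Cfsg.pLayer 2 ↥C = ⊥ := by
    rw [← le_bot_iff]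
    refine sSup_le fun K hK => ?_
    exfalso
    have hKM : K.map C.subtype ≤ M :=
      ((Subgroup.map_mono (le_sSup hK)).trans (Cfsg.Agent.S1301.result T' (by
        exact S.2.to_le (by rw [hTe]; exact inf_le_left)))).trans le_sup_left
    have hZA : Z ≤ M ⊓ C := le_inf (inf_le_left.trans (map_subtype_le _)) inf_le_right
    have hc : M ⊓ C ≤ centralizer (Z : Set X) := fun a ha =>
      mem_centralizer_iff.2 fun z hz => mem_centralizer_iff.1 ha.2 z hz.1
    have hsplit := le_sup_oc hZA hc hTp (fun x hx hk => hTmax x hx.1 hx.2 hk)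
    have hOC : oc (M ⊓ C) ≤ oc C := le_oc ((oc_le _).trans inf_le_right)
      (le_normalizer_oc (Cfsg.Lib.Coprime.le_normalizer_inf (by rw [normalizer_eq_top]; exact le_top)
        le_normalizer)) (odd_oc _)
    have hperf : ⁅K.map C.subtype, K.map C.subtype⁆ = K.map C.subtype := by
      rw [← map_commutator, pcomp_perfect hK]
    refine pcomp_not_le_core hK (fun k hk => ?_)
    have hkk : (k : X) ∈ oc C := by
      set N := (Cfsg.pPrimeCore 2 ↥C)
      have h1 : (K.map C.subtype).subgroupOf C ≤ (Z.subgroupOf C) ⊔ N := by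
        intro x hx
        have hxm : (x : X) ∈ M ⊓ C := ⟨hKM (mem_subgroupOf.1 hx), x.2⟩
        obtain ⟨z, hz, o, ho, e⟩ := (Cfsg.Lib.Coprime.mem_sup_of_le_normalizer' (H := Z) (N := oc (M ⊓ C))
          (hZA.trans (le_normalizer_oc le_normalizer)) (x := (x : X))).1
          (by rw [sup_comm]; exact hsplit hxm)
        obtain ⟨o', ho', eo⟩ := hOC ho
        have ex : x = (⟨z, hz.2⟩ : C) * o' := Subtype.ext (by rw [Subgroup.coe_mul, ← e]; exact congrArg _ eo.symm)
        rw [ex]
        exact mul_mem (mem_sup_left (mem_subgroupOf.2 hz)) (mem_sup_right ho')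
      have h2 : K ≤ N := perfect_le (N := N) (H := Z.subgroupOf C) (pcomp_perfect hK) hTp.comap_subtype (by
        rw [sup_comm]
        exact (show K ≤ (K.map C.subtype).subgroupOf C from
          fun x hx => mem_subgroupOf.2 ⟨x, hx, rfl⟩).trans h1)
      exact ⟨k, h2 hk, rfl⟩
    obtain ⟨k', hk', ek⟩ := hkk
    rwa [Subtype.ext ek] at hk'
  -- `d'` lies in the core of the centralizer of `R` in `C`
  set F := (M ⊔ D) ⊓ (C ⊓ CR) with hF
  have hd'F : d' ∈ F := by
    refine ⟨?_, hd'C, hd'R⟩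
    have e : d' = (n0 * h)⁻¹ * d := by rw [e1, e2]; group
    rw [e]
    exact mul_mem (mem_sup_left (M.inv_mem (M.mul_mem hn0M hhM))) (mem_sup_right hd)
  set Z' := T' ⊓ (C ⊓ CR) with hZ'
  have hd'O : d' ∈ oc (C ⊓ CR) := by
    have hZF : Z' ≤ F := le_inf ((inf_le_left.trans (map_subtype_le _)).trans le_sup_left) inf_le_right
    have hc : F ≤ centralizer (Z' : Set X) := fun a ha =>
      mem_centralizer_iff.2 fun z hz => mem_centralizer_iff.1 ha.2.1 z hz.1
    have hmax : ∀ x ∈ F, (∃ k, x ^ 2 ^ k = 1) → x ∈ Z' := by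
      intro x hx hk
      obtain ⟨m, hm, e, he, emx⟩ := (Cfsg.Lib.Coprime.mem_sup_of_le_normalizer (N := M) (H := D)
        (by rw [normalizer_eq_top]; exact le_top)).1 hx.1
      have heM : e ∈ M := by
        obtain ⟨k, hk⟩ := hk
        refine mem_of_pow_mem (odd_zpowers_of_mem (odd_oc CR) he) (pow_orderOf_eq_one e) ⟨k, ?_⟩
        rw [← QuotientGroup.eq_one_iff, QuotientGroup.mk_pow]
        have h1 : (x : X ⧸ M) = e := by
          rw [← emx, QuotientGroup.mk_mul, (QuotientGroup.eq_one_iff m).2 hm, one_mul]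
        rw [← h1, ← QuotientGroup.mk_pow, hk, QuotientGroup.mk_one]
      have hxM : x ∈ M := emx ▸ M.mul_mem hm heM
      exact ⟨(hTmax x hxM hx.2.1 hk).1, hx.2⟩
    have hn : C ⊓ CR ≤ normalizer (F : Set X) := Cfsg.Lib.Coprime.le_normalizer_inf
      (Cfsg.Lib.Coprime.le_normalizer_sup (by rw [normalizer_eq_top]; exact le_top) (inf_le_right.trans hDn))
      le_normalizer
    exact le_oc ((oc_le F).trans inf_le_right) (le_normalizer_oc hn) (odd_oc F)
      (mem_oc_of_odd hZF hc (hTp.to_le (inf_le_inf_left _ inf_le_left)) hmax hd'F hd'odd)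
  -- balance in the constrained group `C R`
  have hbal : oc (C ⊓ CR) ≤ oc C := by
    by_cases hR1 : R = ⊥
    · refine le_oc ((oc_le _).trans inf_le_left) (le_normalizer_oc ?_) (odd_oc _)
      rw [hCR, hR1]
      refine le_trans le_normalizer (le_of_eq ?_)
      congr 1
      ext x
      simp [mem_centralizer_iff]
    set Y := C ⊔ R with hY
    set C' := C.subgroupOf Y
    haveI : C'.Normal := (normal_subgroupOf_iff_le_normalizer le_sup_left).2 (sup_le le_normalizer hRC)
    set R' := R.subgroupOf Y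
    have hR' : IsPGroup 2 R' := hR.comap_subtype
    have htop : (⊤ : Subgroup Y) ≤ C' ⊔ R' := by
      rw [← subgroupOf_sup le_sup_left le_sup_right]
      exact (subgroupOf_eq_top.2 le_rfl).ge
    have hLY : Cfsg.pLayer 2 ↥Y = ⊥ := by
      rw [← le_bot_iff]
      refine sSup_le fun K hK => ?_
      exfalso
      have hKC : K ≤ C' := perfect_le (pcomp_perfect hK) hR' (le_top.trans htop)
      have hC's : C'.IsSubnormal := (inferInstance : C'.Normal).isSubnormal
      have hK2 : IsPComponent 2 (K.subgroupOf C') := by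
        rw [← pcomp_map_subtype_iff hC's, map_subgroupOf_eq_of_le hKC]
        exact hK
      have hK3 := pcomp_map_equiv hK2 (subgroupOfEquivOfLe (le_sup_left : C ≤ Y))
      have := le_sSup (s := {K : Subgroup C | IsPComponent 2 K}) hK3
      rw [← Cfsg.pLayer, hLC, le_bot_iff] at this
      exact pcomp_ne_bot hK3 this
    have hR'1 : R' ≠ ⊥ := fun h => hR1 (by
      rw [← map_subgroupOf_eq_of_le (le_sup_right : R ≤ Y)]
      exact (congrArg (Subgroup.map Y.subtype) h).trans (Subgroup.map_bot _))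
    have key := (Cfsg.Agent.S1293.result 2 hLY R' hR' hR'1).2
    intro x hx
    have hxC : x ∈ C := (oc_le _ hx).1
    have h1 : (⟨x, mem_sup_left hxC⟩ : Y) ∈ oc (normalizer (R' : Set Y)) := by
      have hle : (oc (C ⊓ CR)).subgroupOf Y ≤ oc (normalizer (R' : Set Y)) := by
        refine le_oc ?_ ?_ ?_
        · intro y hy
          refine centralizer_le_normalizer _ (mem_centralizer_iff.2 fun r hr => Subtype.ext ?_)
          exact mem_centralizer_iff.1 (oc_le _ (mem_subgroupOf.1 hy)).2 r (mem_subgroupOf.1 hr)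
        · intro g hg
          have hgR : (g : X) ∈ normalizer (R : Set X) := by
            refine Cfsg.Lib.Sft.mem_normalizer_of_conj fun r hr => ?_
            exact mem_subgroupOf.1 ((mem_normalizer_iff.1 hg ⟨r, mem_sup_right hr⟩).1 (mem_subgroupOf.2 hr))
          have hgC : (g : X) ∈ normalizer (C : Set X) := sup_le le_normalizer hRC g.2
          have hgn : (g : X) ∈ normalizer ((C ⊓ CR : Subgroup X) : Set X) :=
            Cfsg.Lib.Sft.mem_normalizer_of_conj fun y hy =>
              ⟨(mem_normalizer_iff.1 hgC y).1 hy.1, centralizer_conj hgR hy.2⟩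
          have := le_normalizer_oc (zpowers_le.2 hgn) (mem_zpowers (g : X))
          refine Cfsg.Lib.Sft.mem_normalizer_of_conj fun y hy => mem_subgroupOf.2 ?_
          exact (mem_normalizer_iff.1 this _).1 (mem_subgroupOf.1 hy)
        · rw [card_subgroupOf_of_le (((oc_le _).trans inf_le_left).trans le_sup_left)]
          exact odd_oc _
      exact hle (mem_subgroupOf.2 hx)
    have h2 : (⟨x, mem_sup_left hxC⟩ : Y) ∈ Cfsg.pPrimeCore 2 ↥Y := key h1
    have h3 : (Cfsg.pPrimeCore 2 ↥Y).map Y.subtype ≤ oc C := by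
      refine le_oc ?_ ?_ (odd_oc Y)
      · rintro _ ⟨y, hy, rfl⟩
        exact mem_subgroupOf.1 (odd_mem hR' (htop (mem_top y))
          (odd_zpowers_of_mem (coprime_card_pPrimeCore 2) hy))
      · exact (le_normalizer_oc (A := Y) (B := C) ((le_sup_left : C ≤ Y).trans le_normalizer))
    exact h3 ⟨_, h2, rfl⟩
  have hd'L : d' ∈ oddCoreCent T' := hbal hd'O
  -- assembly
  set N0 := Cfsg.pLayer 2 X ⊔ Cfsg.oddCore X with hN0
  haveI : N0.Normal := sup_normal _ _
  have hMle : M ≤ N0 ⊔ T' :=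
    sup_le (le_sup_left.trans le_sup_left) ((pPrimePCore_le_sup M
      (pPrimeCore_le_pPrimePCore'.trans le_sup_right) le_sup_right T).trans
      (sup_le (le_sup_right.trans le_sup_left) le_sup_right))
  obtain ⟨n, hn, t, ht, ent⟩ := (Cfsg.Lib.Coprime.mem_sup_of_le_normalizer (N := N0) (H := T')
    (by rw [normalizer_eq_top]; exact le_top)).1 (hMle (M.mul_mem hn0M hhM))
  have htN : t ∈ N0 := by
    rw [← QuotientGroup.eq_one_iff]
    obtain ⟨k, hk⟩ := (S.2.to_le (by rw [hTe]; exact inf_le_left : T' ≤ (S : Subgroup X))) ⟨t, ht⟩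
    have hk' : t ^ 2 ^ k = 1 := by simpa using congrArg Subtype.val hk
    refine eq_one_of_odd (z := (t : X ⧸ N0)) (c := (d' : X ⧸ N0))
      ⟨k, by rw [← QuotientGroup.mk_pow, hk', QuotientGroup.mk_one]⟩
      (by rw [← QuotientGroup.mk_mul, ← QuotientGroup.mk_mul, mem_centralizer_iff.1 hd'C t ht])
      (hd'odd.mul_left hdodd)
      (by rw [← QuotientGroup.mk_pow, pow_mul, pow_orderOf_eq_one, one_pow, QuotientGroup.mk_one]) ?_
    have h1 : ((t : X ⧸ N0) * (d' : X ⧸ N0)) = (d : X ⧸ N0) := by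
      rw [e1, e2, ← mul_assoc n0 h d', ← ent, QuotientGroup.mk_mul, QuotientGroup.mk_mul,
        (QuotientGroup.eq_one_iff n).2 hn, one_mul]
    rw [h1, ← QuotientGroup.mk_pow, pow_mul', pow_orderOf_eq_one, one_pow, QuotientGroup.mk_one]
  rw [e1, e2, ← mul_assoc n0 h d', ← ent, Cfsg.extendedTwoLayer]
  exact mul_mem (mem_sup_left (N0.mul_mem hn htN)) (mem_sup_right (le_iSup (fun T : Sylow 2 ↥M =>
    oddCoreCent ((T : Subgroup M).map M.subtype)) T hd'L))

end Cfsg.Lib.CoreBal
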