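import Cfsg.Agent.Components.Misc.Extended
import Cfsg.Agent.Coprime.Action
import Cfsg.Agent.Components.PComponents
import Cfsg.Agent.Components.Misc.GenFittingAction

/-!
Tools for core balance: cores of subgroups, central Sylow subgroups, coprime splitting.
-/

set_option linter.style.haveILetI false
set_option linter.unusedSectionVars false

namespace Cfsg.Lib.CoreBal

open Subgroup Cfsg.Lib.Components

universe u

variable {G : Type u} [Group G] [Finite G]

/-- `O(A)` as a subgroup of the ambient group -/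
noncomputable abbrev oc (A : Subgroup G) : Subgroup G := (oddCore ↥A).map A.subtype

theorem oc_le (A : Subgroup G) : oc A ≤ A := map_subtype_le _

theorem odd_oc (A : Subgroup G) : (Nat.card (oc A)).Coprime 2 := by
  rw [card_map_of_injective A.subtype_injective]
  exact coprime_card_pPrimeCore 2

theorem le_normalizer_oc {A B : Subgroup G} (h : B ≤ normalizer (A : Set G)) :
    B ≤ normalizer (oc A : Set G) :=
  h.trans (Cfsg.Lib.GenFittingAction.le_normalizer_map_char A (pPrimeCore 2 ↥A))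

theorem le_oc {A B : Subgroup G} (hAB : A ≤ B) (hn : B ≤ normalizer (A : Set G))
    (hA : (Nat.card A).Coprime 2) : A ≤ oc B := by
  haveI : (A.subgroupOf B).Normal := (normal_subgroupOf_iff_le_normalizer hAB).2 hn
  rw [← map_subgroupOf_eq_of_le hAB]
  refine Subgroup.map_mono (le_pPrimeCore ?_)
  rwa [card_subgroupOf_of_le hAB]

theorem odd_zpowers_of_mem {A : Subgroup G} (hA : (Nat.card A).Coprime 2) {x : G} (hx : x ∈ A) :
    (orderOf x).Coprime 2 :=
  hA.coprime_dvd_left (by rw [← Nat.card_zpowers]; exact card_dvd_of_le (zpowers_le.2 hx))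

/-- an element of `2`-power order whose product with a commuting element of odd order has odd order is trivial -/
theorem eq_one_of_odd {z c : G} (hz : ∃ k, z ^ 2 ^ k = 1) (hzc : z * c = c * z) {n : ℕ} (hn : n.Coprime 2)
    (h1 : c ^ n = 1) (h2 : (z * c) ^ n = 1) : z = 1 := by
  obtain ⟨k, hk⟩ := hz
  have h3 : z ^ n = 1 := by rwa [(show Commute z c from hzc).mul_pow, h1, mul_one] at h2
  have h4 : orderOf z ∣ 1 := by
    rw [← (hn.pow_right k).gcd_eq_one]
    exact Nat.dvd_gcd (orderOf_dvd_of_pow_eq_one h3) (orderOf_dvd_of_pow_eq_one hk)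
  exact orderOf_eq_one_iff.1 (Nat.dvd_one.1 h4)

/-- an element of odd order in an odd-by-`2` situation -/
theorem mem_of_pow_mem {N : Subgroup G} [N.Normal] {x : G} {n : ℕ} (hn : n.Coprime 2) (hx : x ^ n = 1)
    (h : ∃ k, x ^ 2 ^ k ∈ N) : x ∈ N := by
  obtain ⟨k, hk⟩ := h
  rw [← QuotientGroup.eq_one_iff] at hk ⊢
  refine eq_one_of_odd (c := 1) (z := (x : G ⧸ N)) ⟨k, by rw [← QuotientGroup.mk_pow]; exact hk⟩
    (by rw [one_mul, mul_one]) hn (one_pow n) ?_
  rw [mul_one, ← QuotientGroup.mk_pow, hx, QuotientGroup.mk_one]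

/-- Burnside: a group with a central Sylow `2`-subgroup -/
theorem le_sup_oc {A Z : Subgroup G} (hZA : Z ≤ A) (hc : A ≤ centralizer (Z : Set G)) (hZ : IsPGroup 2 Z)
    (hmax : ∀ x ∈ A, (∃ k, x ^ 2 ^ k = 1) → x ∈ Z) : A ≤ Z ⊔ oc A := by
  haveI : Fact (Nat.Prime 2) := ⟨Nat.prime_two⟩
  obtain ⟨P, hP⟩ := (hZ.comap_subtype (K := A)).exists_le_sylow
  have hPZ : (P : Subgroup A) = Z.subgroupOf A := by
    refine le_antisymm (fun x hx => ?_) hP
    obtain ⟨k, hk⟩ := P.2 ⟨x, hx⟩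
    exact mem_subgroupOf.2 (hmax x x.2 ⟨k, by
      have := congrArg (fun y => ((y.1 : A) : G)) hk
      simpa using this⟩)
  have hcen : normalizer ((P : Subgroup A) : Set A) ≤ centralizer ((P : Subgroup A) : Set A) := by
    intro a _
    refine mem_centralizer_iff.2 fun z hz => Subtype.ext ?_
    rw [SetLike.mem_coe, hPZ] at hz
    exact mem_centralizer_iff.1 (hc a.2) z (mem_subgroupOf.1 hz)
  set f := MonoidHom.transferSylow P hcen
  have hcompl := MonoidHom.ker_transferSylow_isComplement' P hcen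
  have hker : f.ker ≤ pPrimeCore 2 A := le_pPrimeCore
    (((Nat.Prime.coprime_iff_not_dvd Nat.prime_two).2 (MonoidHom.not_dvd_card_ker_transferSylow P hcen)).symm)
  intro a ha
  obtain ⟨⟨n, z⟩, hnz⟩ := (hcompl : IsComplement' f.ker (P : Subgroup A)).2 ⟨a, ha⟩
  have e : a = ((n : A) : G) * ((z : A) : G) := congrArg Subtype.val hnz.symm
  rw [e]
  refine mul_mem (mem_sup_right ⟨n, hker n.2, rfl⟩) (mem_sup_left ?_)
  have hz : (z : A) ∈ Z.subgroupOf A := hPZ ▸ z.2
  exact hz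

/-- an element of odd order lies in the core -/
theorem mem_oc_of_odd {A Z : Subgroup G} (hZA : Z ≤ A) (hc : A ≤ centralizer (Z : Set G)) (hZ : IsPGroup 2 Z)
    (hmax : ∀ x ∈ A, (∃ k, x ^ 2 ^ k = 1) → x ∈ Z) {a : G} (ha : a ∈ A) (hodd : (orderOf a).Coprime 2) :
    a ∈ oc A := by
  have hn : A ≤ normalizer (oc A : Set G) := le_normalizer_oc le_normalizer
  obtain ⟨z, hz, o, ho, e⟩ := Cfsg.Lib.Coprime.mem_sup_of_le_normalizer' (H := Z) (N := oc A)
    (hZA.trans hn) |>.1 (by rw [sup_comm]; exact le_sup_oc hZA hc hZ hmax ha)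
  have hzo : z * o = o * z := mem_centralizer_iff.1 (hc (oc_le A ho)) z hz
  obtain ⟨k, hk⟩ := hZ ⟨z, hz⟩
  have hz1 : z = 1 := eq_one_of_odd ⟨k, by simpa using congrArg Subtype.val hk⟩ hzo
    (hodd.mul_left (odd_oc A))
    (by
      have h := congrArg Subtype.val (pow_card_eq_one' (x := (⟨o, ho⟩ : oc A)))
      simp only [SubgroupClass.coe_pow, OneMemClass.coe_one] at h
      rw [pow_mul', h, one_pow])
    (by rw [e, pow_mul, pow_orderOf_eq_one, one_pow])
  rw [← e, hz1, one_mul]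
  exact ho

/-- coprime action of a `2`-group on an odd group -/
theorem coprime_split {P V N : Subgroup G} (hP : IsPGroup 2 P) (hPV : P ≤ normalizer (V : Set G))
    (hPN : P ≤ normalizer (N : Set G)) (hV : (Nat.card V).Coprime 2) (hVN : V ≤ normalizer (N : Set G))
    (hcomm : ∀ v ∈ V, ∀ a ∈ P, a * v * a⁻¹ * v⁻¹ ∈ N) {v : G} (hv : v ∈ V) :
    ∃ n w, n ∈ V ∧ n ∈ N ∧ w ∈ V ∧ w ∈ centralizer (P : Set G) ∧ v = n * w := by
  haveI : Fact (Nat.Prime 2) := ⟨Nat.prime_two⟩
  haveI := hP.isNilpotent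
  obtain ⟨k, hk⟩ := IsPGroup.iff_card.1 hP
  have hnV : v ∈ normalizer ((V ⊓ N : Subgroup G) : Set G) :=
    Cfsg.Lib.Coprime.le_normalizer_inf le_normalizer hVN hv
  obtain ⟨d, hd, hc⟩ := Cfsg.Lib.Coprime.exists_fixed_of_commutator_mem
    (A := P) (N := V ⊓ N) (Cfsg.Lib.Coprime.le_normalizer_inf hPV hPN)
    (by
      rw [hk]
      exact Nat.Coprime.pow_left k ((hV.coprime_dvd_left (card_dvd_of_le inf_le_left)).symm))
    (Or.inl inferInstance) hnV (fun a ha => ⟨V.mul_mem ((mem_normalizer_iff.1 (hPV ha) v).1 hv) (V.inv_mem hv),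
      hcomm v hv a ha⟩)
  have hn := (mem_normalizer_iff.1 hnV d).1 hd
  refine ⟨v * d⁻¹ * v⁻¹, v * d, V.mul_mem (V.mul_mem hv (V.inv_mem hd.1)) (V.inv_mem hv), ?_,
    V.mul_mem hv hd.1, hc, by group⟩
  rw [show v * d⁻¹ * v⁻¹ = (v * d * v⁻¹)⁻¹ by group]
  exact N.inv_mem hn.2

/-- the product of two commuting `2`-subgroups -/
theorem isPGroup_sup {A B : Subgroup G} (hA : IsPGroup 2 A) (hB : IsPGroup 2 B)
    (h : A ≤ normalizer (B : Set G)) : IsPGroup 2 ↥(A ⊔ B) :=
  hA.to_sup_of_normal_right' hB h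

end Cfsg.Lib.CoreBal
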